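import Cfsg.Agent.Lib.Helper30.CLen.Defs

/-!
# CLEN-[BASIC-A] (helper30): chains and the composition length, basic API
-/

set_option autoImplicit false

namespace Cfsg.Agent.Lib.Helper30.CLen

universe u

variable {G : Type u} [Group G]

theorem Reach.le {A B : Subgroup G} {l : ℕ} (h : Reach A B l) : A ≤ B := by
  induction h with
  | refl => exact le_rfl
  | step _ hlt _ ih => exact ih.trans hlt.le

theorem Reach.trans {A B C : Subgroup G} {l₁ l₂ : ℕ} (h₁ : Reach A B l₁) (h₂ : Reach B C l₂) :
    Reach A C (l₁ + l₂) := by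
  induction h₂ with
  | refl => exact h₁
  | step _ hlt hn ih => exact Reach.step ih hlt hn

/-- inversion of the last step -/
theorem Reach.succ_inv {A C : Subgroup G} {l : ℕ} (h : Reach A C (l + 1)) :
    ∃ B, Reach A B l ∧ B < C ∧ (B.subgroupOf C).Normal := by
  cases h with
  | step h' hlt hn => exact ⟨_, h', hlt, hn⟩

theorem Reach.zero_inv {A C : Subgroup G} (h : Reach A C 0) : A = C := by
  cases h with
  | refl => rfl

/-- a strict inclusion of finite subgroups at least doubles the order -/
theorem exists_two_le_mul_of_lt [Finite G] {B C : Subgroup G} (hlt : B < C) :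
    ∃ t : ℕ, 2 ≤ t ∧ Nat.card C = Nat.card B * t := by
  obtain ⟨t, ht⟩ := Subgroup.card_dvd_of_le hlt.le
  refine ⟨t, ?_, ht⟩
  have hB : 0 < Nat.card B := Nat.card_pos
  have hC : 0 < Nat.card C := Nat.card_pos
  rcases Nat.lt_or_ge t 2 with h | h
  · exfalso
    interval_cases t
    · rw [ht] at hC; simp at hC
    · rw [mul_one] at ht
      exact hlt.ne (Subgroup.eq_of_le_of_card_ge hlt.le ht.le)
  · exact h

theorem Reach.card_mul_le [Finite G] {A B : Subgroup G} {l : ℕ} (h : Reach A B l) :
    Nat.card A * 2 ^ l ≤ Nat.card B := by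
  induction h with
  | refl => simp
  | step _ hlt _ ih =>
    obtain ⟨t, ht2, ht⟩ := exists_two_le_mul_of_lt hlt
    rw [ht, pow_succ, ← mul_assoc]
    exact Nat.mul_le_mul ih ht2

theorem Reach.cardFactors_le [Finite G] {A B : Subgroup G} {l : ℕ} (h : Reach A B l) :
    ArithmeticFunction.cardFactors (Nat.card A) + l ≤
      ArithmeticFunction.cardFactors (Nat.card B) := by
  induction h with
  | refl => simp
  | @step B C l _ hlt _ ih =>
    obtain ⟨t, ht2, ht⟩ := exists_two_le_mul_of_lt hlt
    have hB : Nat.card B ≠ 0 := Nat.card_pos.ne'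
    have ht0 : t ≠ 0 := by omega
    rw [ht, ArithmeticFunction.cardFactors_mul hB ht0]
    have h1 : 0 < ArithmeticFunction.cardFactors t :=
      ArithmeticFunction.cardFactors_pos_iff_one_lt.mpr (by omega)
    omega

theorem bddAbove_reach [Finite G] : BddAbove {l | Reach (⊥ : Subgroup G) ⊤ l} := by
  refine ⟨Nat.card G, ?_⟩
  intro l hl
  have h := Reach.card_mul_le hl
  rw [Subgroup.card_bot, Subgroup.card_top, one_mul] at h
  exact (Nat.lt_two_pow_self.le).trans h

theorem nonempty_reach : {l | Reach (⊥ : Subgroup G) ⊤ l}.Nonempty := by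
  by_cases h : (⊥ : Subgroup G) = ⊤
  · exact ⟨0, by
      show Reach (⊥ : Subgroup G) ⊤ 0
      rw [← h]; exact Reach.refl _⟩
  · refine ⟨1, ?_⟩
    have hlt : (⊥ : Subgroup G) < ⊤ := lt_of_le_of_ne bot_le h
    refine Reach.step (Reach.refl _) hlt ?_
    rw [Subgroup.bot_subgroupOf]
    infer_instance

theorem Reach.le_clen [Finite G] {l : ℕ} (h : Reach (⊥ : Subgroup G) ⊤ l) : l ≤ clen G :=
  le_csSup bddAbove_reach h

theorem reach_clen [Finite G] : Reach (⊥ : Subgroup G) ⊤ (clen G) :=
  Nat.sSup_mem nonempty_reach bddAbove_reach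

theorem two_pow_clen_le [Finite G] : 2 ^ clen G ≤ Nat.card G := by
  have h := Reach.card_mul_le (reach_clen (G := G))
  rwa [Subgroup.card_bot, Subgroup.card_top, one_mul] at h

theorem clen_le_cardFactors [Finite G] :
    clen G ≤ ArithmeticFunction.cardFactors (Nat.card G) := by
  have h := Reach.cardFactors_le (reach_clen (G := G))
  rwa [Subgroup.card_bot, Subgroup.card_top, ArithmeticFunction.cardFactors_one, zero_add] at h

theorem clen_eq_zero [Subsingleton G] : clen G = 0 := by
  have : Finite G := Finite.of_subsingleton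
  have h := two_pow_clen_le (G := G)
  rw [Nat.card_unique] at h
  by_contra hne
  have : 2 ≤ 2 ^ clen G := by
    calc 2 = 2 ^ 1 := by norm_num
      _ ≤ 2 ^ clen G := Nat.pow_le_pow_right (by norm_num) (Nat.one_le_iff_ne_zero.mpr hne)
  omega

theorem one_le_clen [Finite G] [Nontrivial G] : 1 ≤ clen G := by
  apply Reach.le_clen
  refine Reach.step (Reach.refl _) bot_lt_top ?_
  rw [Subgroup.bot_subgroupOf]
  infer_instance

theorem clen_le_one_of_simple [Finite G] [IsSimpleGroup G] : clen G ≤ 1 := by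
  rcases Nat.eq_zero_or_pos (clen G) with h0 | hpos
  · omega
  obtain ⟨l, hl⟩ : ∃ l, clen G = l + 1 := ⟨clen G - 1, by omega⟩
  have h := reach_clen (G := G)
  rw [hl] at h
  obtain ⟨B, hB, hlt, hn⟩ := h.succ_inv
  have hBn : B.Normal := by
    have h1 := (Subgroup.normal_subgroupOf_iff (H := B) (K := ⊤) le_top).mp hn
    exact ⟨fun x hx g => h1 x g hx (Subgroup.mem_top g)⟩
  rcases hBn.eq_bot_or_eq_top with hb | ht
  · rw [hb] at hB
    have h2 := hB.card_mul_le
    rw [Subgroup.card_bot, one_mul] at h2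
    have : l = 0 := by
      by_contra hne
      have : 2 ≤ 2 ^ l := by
        calc 2 = 2 ^ 1 := by norm_num
          _ ≤ 2 ^ l := Nat.pow_le_pow_right (by norm_num) (Nat.one_le_iff_ne_zero.mpr hne)
      omega
    omega
  · exact absurd ht hlt.ne

/-- the chains of the frozen statement -/
theorem reach_of_chain (l : ℕ) (H : Fin (l + 1) → Subgroup G) (h0 : H 0 = ⊥)
    (hl : H (Fin.last l) = ⊤)
    (hchain : ∀ i : Fin l, H i.castSucc < H i.succ ∧ ((H i.castSucc).subgroupOf (H i.succ)).Normal) :
    Reach (⊥ : Subgroup G) ⊤ l := by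
  have key : ∀ i : ℕ, ∀ hi : i < l + 1, Reach (H 0) (H ⟨i, hi⟩) i := by
    intro i
    induction i with
    | zero => intro hi; exact Reach.refl _
    | succ i ih =>
      intro hi
      have hi' : i < l := by omega
      have h1 := ih (by omega)
      obtain ⟨hlt, hn⟩ := hchain ⟨i, hi'⟩
      exact Reach.step h1 hlt hn
  have h := key l (by omega)
  rw [h0] at h
  have e : (⟨l, by omega⟩ : Fin (l + 1)) = Fin.last l := rfl
  rw [e, hl] at h
  exact h

end Cfsg.Agent.Lib.Helper30.CLen
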