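import Cfsg.Agent.Lib.Helper30.CLen.BasicA

/-!
# CLEN-[BASIC-B] (helper30): transport of chains along homomorphisms
-/

set_option autoImplicit false

namespace Cfsg.Agent.Lib.Helper30.CLen

universe u w

variable {G : Type u} [Group G]

theorem Reach.map {G' : Type w} [Group G'] (f : G →* G') (hf : Function.Injective f)
    {A B : Subgroup G} {l : ℕ} (h : Reach A B l) : Reach (A.map f) (B.map f) l := by
  induction h with
  | refl => exact Reach.refl _
  | @step B C l _ hlt hn ih =>
    refine Reach.step ih ((Subgroup.map_lt_map_iff_of_injective hf).mpr hlt) ?_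
    have h1 := (Subgroup.normal_subgroupOf_iff hlt.le).mp hn
    rw [Subgroup.normal_subgroupOf_iff (Subgroup.map_mono hlt.le)]
    rintro _ _ ⟨b, hb, rfl⟩ ⟨c, hc, rfl⟩
    exact ⟨c * b * c⁻¹, h1 b c hb hc, by simp⟩

theorem Reach.comap {G' : Type w} [Group G'] (f : G →* G') (hf : Function.Surjective f)
    {A B : Subgroup G'} {l : ℕ} (h : Reach A B l) : Reach (A.comap f) (B.comap f) l := by
  induction h with
  | refl => exact Reach.refl _
  | @step B C l _ hlt hn ih =>
    refine Reach.step ih ((Subgroup.comap_lt_comap_of_surjective hf).mpr hlt) ?_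
    have h1 := (Subgroup.normal_subgroupOf_iff hlt.le).mp hn
    rw [Subgroup.normal_subgroupOf_iff (Subgroup.comap_mono hlt.le)]
    intro b c hb hc
    rw [Subgroup.mem_comap] at hb hc ⊢
    rw [map_mul, map_mul, map_inv]
    exact h1 _ _ hb hc

theorem clen_le_of_mulEquiv [Finite G] {G' : Type w} [Group G'] (e : G ≃* G') :
    clen G ≤ clen G' := by
  have : Finite G' := Finite.of_equiv G e.toEquiv
  have h := (reach_clen (G := G)).map e.toMonoidHom e.injective
  rw [Subgroup.map_bot, Subgroup.map_top_of_surjective _ e.surjective] at h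
  exact h.le_clen

theorem clen_congr [Finite G] {G' : Type w} [Group G'] (e : G ≃* G') : clen G = clen G' := by
  have : Finite G' := Finite.of_equiv G e.toEquiv
  exact le_antisymm (clen_le_of_mulEquiv e) (clen_le_of_mulEquiv e.symm)

/-- restriction of a chain below `K` to the group `↥K` -/
theorem Reach.subgroupOf (K : Subgroup G) {A B : Subgroup G} {l : ℕ} (h : Reach A B l)
    (hB : B ≤ K) : Reach (A.subgroupOf K) (B.subgroupOf K) l := by
  induction h with
  | refl => exact Reach.refl _
  | @step B C l _ hlt hn ih =>
    have hBK : B ≤ K := hlt.le.trans hB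
    have hle : B.subgroupOf K ≤ C.subgroupOf K := Subgroup.comap_mono hlt.le
    have hne : B.subgroupOf K ≠ C.subgroupOf K := by
      intro he
      have h2 := congrArg (Subgroup.map K.subtype) he
      rw [Subgroup.map_subgroupOf_eq_of_le hBK, Subgroup.map_subgroupOf_eq_of_le hB] at h2
      exact hlt.ne h2
    refine Reach.step (ih hBK) (lt_of_le_of_ne hle hne) ?_
    have h1 := (Subgroup.normal_subgroupOf_iff hlt.le).mp hn
    rw [Subgroup.normal_subgroupOf_iff hle]
    intro b c hb hc
    rw [Subgroup.mem_subgroupOf] at hb hc ⊢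
    have := h1 _ _ hb hc
    simpa using this

/-- chains below a subgroup `K` are chains of the group `↥K` -/
theorem reach_subgroup_iff (K : Subgroup G) (l : ℕ) :
    Reach (⊥ : Subgroup G) K l ↔ Reach (⊥ : Subgroup K) ⊤ l := by
  constructor
  · intro h
    have h1 := h.subgroupOf K le_rfl
    rwa [Subgroup.bot_subgroupOf, Subgroup.subgroupOf_self] at h1
  · intro h
    have h1 := h.map K.subtype K.subtype_injective
    rwa [Subgroup.map_bot, ← MonoidHom.range_eq_map, Subgroup.range_subtype] at h1

/-- the composition length of a subgroup, through chains of the ambient group -/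
theorem Reach.le_clen_subgroup [Finite G] {K : Subgroup G} {l : ℕ}
    (h : Reach (⊥ : Subgroup G) K l) : l ≤ clen K :=
  ((reach_subgroup_iff K l).mp h).le_clen

theorem reach_clen_subgroup [Finite G] (K : Subgroup G) : Reach (⊥ : Subgroup G) K (clen K) :=
  (reach_subgroup_iff K _).mpr reach_clen

end Cfsg.Agent.Lib.Helper30.CLen
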