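import Mathlib

/-!
# Project CLEN (S5722): composition length of permutation groups — definitions (helper30)

`Reach A B l`: there is a chain `A = H₀ < H₁ < ⋯ < H_l = B` of subgroups of `G`, each normal in the
next.  `clen G`: the largest `l` with `Reach ⊥ ⊤ l` (the composition length, for finite `G`).
`norb G Ω`: the number of orbits.  `Good k`: the theorem for all pairs `(G, Ω)` with
`|G| + |Ω| ≤ k` (the induction hypothesis).
-/

set_option autoImplicit false

namespace Cfsg.Agent.Lib.Helper30.CLen

universe u v

/-- a strict chain from `A` to `B` of length `l`, each term normal in the next -/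
inductive Reach {G : Type u} [Group G] : Subgroup G → Subgroup G → ℕ → Prop
  | refl (A : Subgroup G) : Reach A A 0
  | step {A B C : Subgroup G} {l : ℕ} (h : Reach A B l) (hlt : B < C)
      (hn : (B.subgroupOf C).Normal) : Reach A C (l + 1)

/-- the composition length: the largest length of a chain from `⊥` to `⊤` -/
noncomputable def clen (G : Type u) [Group G] : ℕ := sSup {l | Reach (⊥ : Subgroup G) ⊤ l}

/-- the number of orbits -/
noncomputable def norb (G : Type u) (Ω : Type v) [Group G] [MulAction G Ω] : ℕ :=
  Nat.card (Quotient (MulAction.orbitRel G Ω))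

/-- the theorem for all faithful actions with `|G| + |Ω| ≤ k` -/
def Good (k : ℕ) : Prop :=
  ∀ (G : Type u) [Group G] [Finite G] (Ω : Type v) [MulAction G Ω] [FaithfulSMul G Ω] [Finite Ω],
    Nat.card G + Nat.card Ω ≤ k → 3 * clen G ≤ 4 * (Nat.card Ω - norb G Ω)

end Cfsg.Agent.Lib.Helper30.CLen
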