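import Cfsg.Agent.Lib.Helper30.CLen.Defs

/-!
# CLEN-[R2] (helper30): reduction along an intransitive normal subgroup
-/

set_option autoImplicit false

namespace Cfsg.Agent.Lib.Helper30.CLen

universe u v

open scoped Pointwise

section red
variable {k : ℕ} {G : Type u} [Group G] [Finite G] {Ω : Type v} [MulAction G Ω] [FaithfulSMul G Ω]
  [Finite Ω]

/-- [R2] in hypothesis form: the dependencies `clen_le_add`, `Good.sub`, `Good.quot`,
`norb_of_fixes_blocks`, `norb_le_card`, `norb_eq_one` enter as hypotheses. -/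
theorem bound_of_normal_not_transitive_of
    (h_add : ∀ (K : Subgroup G) [K.Normal], clen G ≤ clen K + clen (G ⧸ K))
    (h_sub : ∀ (H : Subgroup G), Nat.card H + Nat.card Ω ≤ k →
      3 * clen H ≤ 4 * (Nat.card Ω - norb H Ω))
    (h_quot : ∀ (b : Set Ω),
      Nat.card (G ⧸ (MulAction.toPermHom G (MulAction.orbit G b)).ker) +
          Nat.card (MulAction.orbit G b) ≤ k →
      3 * clen (G ⧸ (MulAction.toPermHom G (MulAction.orbit G b)).ker) ≤
        4 * (Nat.card (MulAction.orbit G b) - norb G (MulAction.orbit G b)))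
    (h_blocks : ∀ (K : Subgroup G) (b : Set Ω), b.Nonempty → MulAction.IsBlock G b →
      (∀ k ∈ K, ∀ c ∈ MulAction.orbit G b, k • c = c) →
      Nat.card (MulAction.orbit G b) ≤ norb K Ω)
    (h_le_card : ∀ (K : Subgroup G), norb K Ω ≤ Nat.card Ω)
    (h_one : ∀ (b : Set Ω), norb G (MulAction.orbit G b) = 1)
    (hcard : Nat.card G + Nat.card Ω = k + 1) [MulAction.IsPretransitive G Ω]
    (N : Subgroup G) [N.Normal] (hN : N ≠ ⊥) (hNt : ¬ MulAction.IsPretransitive N Ω) :
    3 * clen G ≤ 4 * (Nat.card Ω - 1) := by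
  classical
  -- `Ω` is nonempty
  have hΩ : Nonempty Ω := by
    by_contra hne
    rw [not_nonempty_iff] at hne
    exact hNt ⟨fun a => isEmptyElim a⟩
  obtain ⟨a⟩ := hΩ
  set b : Set Ω := MulAction.orbit N a with hbdef
  have hb : b.Nonempty := ⟨a, MulAction.mem_orbit_self a⟩
  have hblock : MulAction.IsBlock G b := MulAction.IsBlock.orbit_of_normal a
  set K : Subgroup G := (MulAction.toPermHom G (MulAction.orbit G b)).ker with hKdef
  have hKn : K.Normal := by rw [hKdef]; infer_instance
  -- elements of `K` fix every block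
  have hKfix : ∀ k ∈ K, ∀ c ∈ MulAction.orbit G b, k • c = c := by
    intro k hk c hc
    rw [hKdef, MonoidHom.mem_ker] at hk
    have h1 := congrArg (fun σ : Equiv.Perm (MulAction.orbit G b) => σ ⟨c, hc⟩) hk
    simp only [MulAction.toPermHom_apply, MulAction.toPerm_apply, Equiv.Perm.coe_one, id_eq] at h1
    have h2 := congrArg Subtype.val h1
    simpa using h2
  -- every `N`-orbit is a block of the system
  have hmem : ∀ ω : Ω, MulAction.orbit N ω ∈ MulAction.orbit G b := by
    intro ω
    obtain ⟨g, hg⟩ := MulAction.exists_smul_eq G a ω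
    refine ⟨g, ?_⟩
    show g • b = MulAction.orbit N ω
    rw [hbdef, MulAction.smul_orbit_eq_orbit_smul N a g, hg]
  -- the number of blocks is smaller than the number of points
  have hXlt : Nat.card (MulAction.orbit G b) < Nat.card Ω := by
    have : Fintype Ω := Fintype.ofFinite Ω
    have : Fintype (MulAction.orbit G b) := Fintype.ofFinite _
    rw [Nat.card_eq_fintype_card, Nat.card_eq_fintype_card]
    let π : Ω → MulAction.orbit G b := fun ω => ⟨MulAction.orbit N ω, hmem ω⟩
    apply Fintype.card_lt_of_surjective_not_injective π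
    · rintro ⟨c, g, rfl⟩
      refine ⟨g • a, ?_⟩
      apply Subtype.ext
      show MulAction.orbit N (g • a) = g • b
      rw [hbdef, MulAction.smul_orbit_eq_orbit_smul N a g]
    · intro hinj
      obtain ⟨n, hnN, hn1⟩ := (Subgroup.ne_bot_iff_exists_ne_one).mp hN |>.imp
        (fun x hx => hx) |> fun ⟨x, hx⟩ => (⟨(x : G), x.2, fun e => hx (Subtype.ext e)⟩ :
          ∃ n : G, n ∈ N ∧ n ≠ 1)
      have hmove : ∃ ω : Ω, n • ω ≠ ω := by
        by_contra hcon
        push Not at hcon
        exact hn1 (FaithfulSMul.eq_of_smul_eq_smul (α := Ω) (fun ω => by rw [hcon ω, one_smul]))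
      obtain ⟨ω, hω⟩ := hmove
      have h1 : π (n • ω) = π ω := by
        apply Subtype.ext
        show MulAction.orbit N (n • ω) = MulAction.orbit N ω
        exact MulAction.orbit_smul (⟨n, hnN⟩ : N) ω
      exact hω (hinj h1)
  -- `K` is a proper subgroup
  have hKtop : K ≠ ⊤ := by
    intro htop
    apply hNt
    have hall : ∀ ω : Ω, ω ∈ b := by
      intro ω
      obtain ⟨g, hg⟩ := MulAction.exists_smul_eq G a ω
      have h1 : g • b = b := hKfix g (by rw [htop]; exact Subgroup.mem_top g) b
        (MulAction.mem_orbit_self b)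
      rw [← h1, ← hg]
      exact Set.smul_mem_smul_set (MulAction.mem_orbit_self a)
    refine ⟨fun x y => ?_⟩
    obtain ⟨n1, hn1⟩ := hall x
    obtain ⟨n2, hn2⟩ := hall y
    refine ⟨n2 * n1⁻¹, ?_⟩
    rw [← hn1, ← hn2, mul_smul, inv_smul_smul]
  have hKlt : Nat.card K < Nat.card G := by
    rcases Nat.lt_or_ge (Nat.card K) (Nat.card G) with h1 | h1
    · exact h1
    · exact absurd (Subgroup.eq_top_of_card_eq K
        (le_antisymm (Nat.le_of_dvd Nat.card_pos (Subgroup.card_subgroup_dvd_card K)) h1)) hKtop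
  have hQle : Nat.card (G ⧸ K) ≤ Nat.card G :=
    Nat.le_of_dvd Nat.card_pos (Subgroup.card_quotient_dvd_card K)
  have h1 := h_add K
  have h2 := h_sub K (by omega)
  have h3 : 3 * clen (G ⧸ K) ≤
      4 * (Nat.card (MulAction.orbit G b) - norb G (MulAction.orbit G b)) :=
    h_quot b (by
      show Nat.card (G ⧸ K) + Nat.card (MulAction.orbit G b) ≤ k
      omega)
  rw [h_one b] at h3
  have h4 := h_blocks K b hb hblock hKfix
  have h5 := h_le_card K
  have hXpos : 0 < Nat.card (MulAction.orbit G b) := by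
    have : Nonempty (MulAction.orbit G b) := ⟨⟨b, MulAction.mem_orbit_self b⟩⟩
    exact Nat.card_pos
  omega

end red

end Cfsg.Agent.Lib.Helper30.CLen
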