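import Cfsg.Agent.Lib.Helper30.CLen.BasicB
import Cfsg.Agent.Lib.Helper80.CLenAdd
import Cfsg.Agent.Lib.Helper47.CLenPGrp
import Cfsg.Agent.Lib.Helper47.CLenProd
import Cfsg.Agent.Lib.Helper59.ProdDerange
import Cfsg.Agent.S0721

/-!
# CLEN-[TRICK] (helper30, hedge): a nonabelian minimal normal subgroup gives a proper subgroup of
at least the same composition length (the normalizer of a Sylow subgroup of it)
-/

set_option autoImplicit false

namespace Cfsg.Agent.Lib.Helper30.CLen

universe u

variable {G : Type u} [Group G]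

/-- extend a chain by one (possibly trivial) normal step -/
theorem Reach.extend {A B C : Subgroup G} {l : ℕ} (h : Reach A B l) (hBC : B ≤ C)
    (hn : (B.subgroupOf C).Normal) : ∃ l', l ≤ l' ∧ Reach A C l' := by
  by_cases he : B = C
  · exact ⟨l, le_rfl, he ▸ h⟩
  · exact ⟨l + 1, Nat.le_succ l, Reach.step h (lt_of_le_of_ne hBC he) hn⟩

/-- intersect a chain above the normal subgroup `N` with a supplement `H` of `N` -/
theorem Reach.inf_of_sup_eq_top {N H : Subgroup G} [N.Normal] (hHN : H ⊔ N = ⊤)
    {A B : Subgroup G} {l : ℕ} (h : Reach A B l) (hNA : N ≤ A) :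
    Reach (A ⊓ H) (B ⊓ H) l := by
  induction h with
  | refl => exact Reach.refl _
  | @step B C l hAB hlt hn ih =>
    have hle : B ⊓ H ≤ C ⊓ H := inf_le_inf_right H hlt.le
    have hne : B ⊓ H ≠ C ⊓ H := by
      intro he
      apply hlt.ne
      apply le_antisymm hlt.le
      intro c hc
      have hc' : c ∈ H ⊔ N := by rw [hHN]; exact Subgroup.mem_top c
      obtain ⟨y, hy, z, hz, hyz⟩ := Subgroup.mem_sup_of_normal_right.mp hc'
      have hzB : z ∈ B := hAB.le (hNA hz)
      have hyC : y ∈ C := by
        have : y = c * z⁻¹ := by rw [← hyz]; group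
        rw [this]
        exact C.mul_mem hc (C.inv_mem (hlt.le hzB))
      have hyB : y ∈ B ⊓ H := by rw [he]; exact ⟨hyC, hy⟩
      rw [← hyz]
      exact B.mul_mem hyB.1 hzB
    refine Reach.step ih (lt_of_le_of_ne hle hne) ?_
    have h1 := (Subgroup.normal_subgroupOf_iff hlt.le).mp hn
    rw [Subgroup.normal_subgroupOf_iff hle]
    intro b c hb hc
    exact ⟨h1 b c hb.1 hc.1, H.mul_mem (H.mul_mem hc.2 hb.2) (H.inv_mem hc.2)⟩

/-- [TRICK] -/
theorem exists_proper_clen_le [Finite G] (N : Subgroup G) [N.Normal]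
    (hN : N ≠ ⊥) (hmin : ∀ M : Subgroup G, M.Normal → M ≤ N → M = ⊥ ∨ M = N)
    (hna : ¬ IsMulCommutative N) : ∃ H : Subgroup G, H ≠ ⊤ ∧ clen G ≤ clen H := by
  classical
  obtain ⟨T, _, m, hT, hm, ⟨e⟩⟩ := Cfsg.Agent.S0721.result N hN hmin
  have hFin : Finite (Fin m → T) := Finite.of_equiv N e.toEquiv
  have : Nonempty (Fin m) := ⟨⟨0, hm⟩⟩
  have hTfin : Finite T :=
    Finite.of_injective (fun t : T => (fun _ : Fin m => t)) (fun a b hab => by
      have := congrFun hab ⟨0, hm⟩
      exact this)
  -- `T` is not commutative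
  have hTna : ¬ IsMulCommutative T := by
    intro hc
    apply hna
    refine ⟨⟨fun x y => ?_⟩⟩
    apply e.injective
    rw [map_mul, map_mul]
    funext i
    exact hc.is_comm.comm _ _
  -- composition length of `N`
  have hclenN : clen N ≤ m := by
    rw [clen_congr e]
    have h1 := Cfsg.Agent.Lib.Helper47.CLen.clen_pi_le_of
      (fun G _ _ K _ => Cfsg.Agent.Lib.Helper80.CLen.clen_le_add K)
      (fun G _ _ G' _ e' => clen_congr e') (T := T) m
    have h2 : clen T ≤ 1 := clen_le_one_of_simple
    calc clen (Fin m → T) ≤ m * clen T := h1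
      _ ≤ m * 1 := Nat.mul_le_mul_left m h2
      _ = m := mul_one m
  -- a prime dividing `|T|`
  have hTcard : Nat.card T ≠ 1 := by
    intro h1
    have : Subsingleton T := (Nat.card_eq_one_iff_unique.mp h1).1
    exact not_subsingleton T this
  obtain ⟨p, hp, hpT⟩ := Nat.exists_prime_and_dvd hTcard
  have : Fact p.Prime := ⟨hp⟩
  have hNcard : Nat.card N = Nat.card T ^ m := by
    rw [Nat.card_congr e.toEquiv, Nat.card_fun, Nat.card_fin]
  have hTpos : Nat.card T ≠ 0 := Nat.card_pos.ne'
  obtain P : Sylow p N := default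
  have hPcard : Nat.card P = p ^ (m * (Nat.card T).factorization p) := by
    rw [P.card_eq_multiplicity, hNcard, Nat.factorization_pow]
    rfl
  have hvpos : 0 < (Nat.card T).factorization p := hp.factorization_pos_of_dvd hTpos hpT
  set a := m * (Nat.card T).factorization p with ha
  have hma : m ≤ a := Nat.le_mul_of_pos_right m hvpos
  -- the image of `P` in `G` and its normalizer
  set P' : Subgroup G := (P : Subgroup N).map N.subtype with hP'
  have hP'N : P' ≤ N := Subgroup.map_subtype_le _
  have hP'card : Nat.card P' = p ^ a := by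
    rw [hP', Subgroup.card_map_of_injective N.subtype_injective]
    exact hPcard
  have hP'p : IsPGroup p P' := P.isPGroup'.map N.subtype
  set H : Subgroup G := Subgroup.normalizer (P' : Set G) with hH
  have hHN : H ⊔ N = ⊤ := Sylow.normalizer_sup_eq_top P
  refine ⟨H, ?_, ?_⟩
  · -- `H` is proper
    intro htop
    have hPn : P'.Normal := Subgroup.normalizer_eq_top_iff.mp htop
    rcases hmin P' hPn hP'N with hbot | hPN
    · rw [hbot, Subgroup.card_bot] at hP'card
      have h2 : 1 < p ^ a := Nat.one_lt_pow (by omega) hp.one_lt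
      omega
    · -- `N` is a `p`-group, but `|T|` has a second prime divisor
      obtain ⟨q, hq, hqp, hqT⟩ := Cfsg.Agent.Lib.Helper59.exists_prime_dvd_ne hTna p hp
      have hNp : Nat.card N = p ^ a := by rw [← hPN]; exact hP'card
      have hqN : q ∣ Nat.card N := by
        rw [hNcard]
        exact dvd_trans hqT (dvd_pow_self _ (by omega))
      rw [hNp] at hqN
      exact hqp ((Nat.prime_dvd_prime_iff_eq hq hp).mp (hq.dvd_of_dvd_pow hqN))
  · -- the chain
    have hP'clen : a ≤ clen P' :=
      Cfsg.Agent.Lib.Helper47.CLen.le_clen_of_isPGroup_of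
        (fun G _ _ K _ => Cfsg.Agent.Lib.Helper80.CLen.add_le_clen K) hP'p hP'card
    have hchain1 : Reach (⊥ : Subgroup G) P' (clen P') := reach_clen_subgroup P'
    have hP'le : P' ≤ N ⊓ H := le_inf hP'N Subgroup.le_normalizer
    have hP'n : (P'.subgroupOf (N ⊓ H)).Normal := by
      rw [Subgroup.normal_subgroupOf_iff hP'le]
      intro x y hx hy
      exact (Subgroup.mem_normalizer_iff.mp hy.2 x).mp hx
    obtain ⟨l₁, hl₁, hchain2⟩ := hchain1.extend hP'le hP'n
    have hq := (reach_clen (G := G ⧸ N)).comap (QuotientGroup.mk' N)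
      (QuotientGroup.mk'_surjective N)
    rw [MonoidHom.comap_bot, QuotientGroup.ker_mk', Subgroup.comap_top] at hq
    have hchain3 := hq.inf_of_sup_eq_top hHN le_rfl
    rw [top_inf_eq] at hchain3
    have htotal := (hchain2.trans hchain3).le_clen_subgroup
    have hadd := Cfsg.Agent.Lib.Helper80.CLen.clen_le_add N
    omega

end Cfsg.Agent.Lib.Helper30.CLen
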