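import Cfsg.Agent.Lib.Helper30.CLen.BasicB
import Cfsg.Agent.Lib.Helper30.CLen.Trick
import Cfsg.Agent.Lib.Helper30.CLen.R2
import Cfsg.Agent.Lib.Helper80.CLenAdd
import Cfsg.Agent.Lib.Helper80.CLenOrb
import Cfsg.Agent.Lib.Helper80.CLenQuot
import Cfsg.Agent.Lib.Helper11.CLenAff
import Cfsg.Agent.Lib.Helper11.CLenAffReg
import Cfsg.Agent.Lib.Helper11.CLenAut
import Cfsg.Agent.Lib.Helper11.CLenR1
import Cfsg.Agent.Lib.Helper47.CLenAffNum
import Cfsg.Agent.Lib.Helper1.MinimalNormal

/-!
# CLEN-[MAIN] (helper30): a faithful permutation group of degree `n` with `r` orbits has composition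
length at most `4 (n - r) / 3` (S5722), assembled from the CLEN modules
-/

set_option autoImplicit false

namespace Cfsg.Agent.Lib.Helper30.CLen

universe u v

open scoped Pointwise

section red
variable {k : ℕ} {G : Type u} [Group G] [Finite G] {Ω : Type v} [MulAction G Ω] [FaithfulSMul G Ω]
  [Finite Ω]

/-- [R1] -/
theorem bound_of_not_transitive (hk : Good.{u, v} k) (hcard : Nat.card G + Nat.card Ω = k + 1)
    (hnt : ¬ MulAction.IsPretransitive G Ω) : 3 * clen G ≤ 4 * (Nat.card Ω - norb G Ω) :=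
  Cfsg.Agent.Lib.Helper11.CLen.bound_of_not_transitive_of
    (fun G _ _ => clen_eq_zero) (fun G _ _ K _ => Cfsg.Agent.Lib.Helper80.CLen.clen_le_add K)
    (fun G _ Ω _ _ => Cfsg.Agent.Lib.Helper80.CLen.norb_le_card)
    (fun G _ Ω _ _ _ => Cfsg.Agent.Lib.Helper80.CLen.norb_eq_one)
    (fun G _ Ω _ _ K a hK => Cfsg.Agent.Lib.Helper80.CLen.norb_of_fixes_orbit K a hK)
    (fun hk G _ _ Ω _ _ _ H h => Cfsg.Agent.Lib.Helper80.CLen.good_sub hk H h)
    (fun hk G _ _ X _ _ h => Cfsg.Agent.Lib.Helper80.CLen.good_quot hk h)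
    hk hcard hnt

/-- [R2] -/
theorem bound_of_normal_not_transitive (hk : Good.{u, v} k)
    (hcard : Nat.card G + Nat.card Ω = k + 1) [MulAction.IsPretransitive G Ω]
    (N : Subgroup G) [N.Normal] (hN : N ≠ ⊥) (hNt : ¬ MulAction.IsPretransitive N Ω) :
    3 * clen G ≤ 4 * (Nat.card Ω - 1) :=
  bound_of_normal_not_transitive_of
    (fun K _ => Cfsg.Agent.Lib.Helper80.CLen.clen_le_add K)
    (fun H h => Cfsg.Agent.Lib.Helper80.CLen.good_sub hk H h)
    (fun b h => Cfsg.Agent.Lib.Helper80.CLen.good_quot hk h)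
    (fun K b hb hblock hK => Cfsg.Agent.Lib.Helper80.CLen.norb_of_fixes_blocks K b hb hblock hK)
    (fun K => Cfsg.Agent.Lib.Helper80.CLen.norb_le_card)
    (fun b => by
      have : Nonempty (MulAction.orbit G b) := ⟨⟨b, MulAction.mem_orbit_self b⟩⟩
      exact Cfsg.Agent.Lib.Helper80.CLen.norb_eq_one)
    hcard N hN hNt

end red

/-- [AFF] -/
theorem bound_of_abelian_transitive {G : Type u} [Group G] [Finite G] {Ω : Type v} [MulAction G Ω]
    [FaithfulSMul G Ω] [Finite Ω] [MulAction.IsPretransitive G Ω]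
    (N : Subgroup G) [N.Normal] (hN : N ≠ ⊥)
    (hmin : ∀ M : Subgroup G, M.Normal → M ≤ N → M = ⊥ ∨ M = N) (hab : IsMulCommutative N)
    (hNt : MulAction.IsPretransitive N Ω) : 3 * clen G ≤ 4 * (Nat.card Ω - 1) :=
  Cfsg.Agent.Lib.Helper11.CLen.bound_of_abelian_transitive_of
    (fun G _ _ => two_pow_clen_le) (fun G _ _ => clen_le_cardFactors)
    (fun G _ _ K _ => Cfsg.Agent.Lib.Helper80.CLen.clen_le_add K)
    (fun N _ _ => Cfsg.Agent.Lib.Helper11.CLen.exists_generators N)
    (fun N _ _ _ s hs => Cfsg.Agent.Lib.Helper11.CLen.card_mulAut_le s hs)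
    (fun G _ _ Ω _ _ _ N _ hab hNt _ =>
      Cfsg.Agent.Lib.Helper11.CLen.regular_of_abelian_transitive N hab hNt)
    (fun G _ _ N _ hN hmin hab =>
      Cfsg.Agent.Lib.Helper11.CLen.card_of_minimal_normal_abelian N hN hmin hab)
    (fun G _ _ Ω _ _ _ => Cfsg.Agent.Lib.Helper11.CLen.card_dvd_factorial)
    Cfsg.Agent.Lib.Helper47.CLen.aff_num
    N hN hmin hab hNt

/-- the theorem, by induction on `|G| + |Ω|` -/
theorem good_all (k : ℕ) : Good.{u, v} k := by
  induction k with
  | zero =>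
    intro G _ _ Ω _ _ _ h
    have : 0 < Nat.card G := Nat.card_pos
    omega
  | succ k ih =>
    intro G _ _ Ω _ _ _ h
    rcases Nat.lt_or_ge (Nat.card G + Nat.card Ω) (k + 1) with hlt | hge
    · exact ih G Ω (by omega)
    have hcard : Nat.card G + Nat.card Ω = k + 1 := le_antisymm h hge
    by_cases htr : MulAction.IsPretransitive G Ω
    swap
    · exact bound_of_not_transitive ih hcard htr
    rcases subsingleton_or_nontrivial G with hG | hG
    · rw [clen_eq_zero]; omega
    have hΩ : Nonempty Ω := by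
      by_contra hne
      rw [not_nonempty_iff] at hne
      obtain ⟨g, hg⟩ := exists_ne (1 : G)
      exact hg (FaithfulSMul.eq_of_smul_eq_smul (α := Ω) (fun a => isEmptyElim a))
    have hr : norb G Ω = 1 := Cfsg.Agent.Lib.Helper80.CLen.norb_eq_one
    rw [hr]
    obtain ⟨N, hNn, hN1, -, hmin⟩ :=
      Cfsg.Agent.Lib.Helper1.exists_minimal_normal_le (⊤ : Subgroup G) inferInstance
        (by
          intro h
          exact not_subsingleton G (Subgroup.subsingleton_iff.mp ⟨fun a b => by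
            have : ∀ x : Subgroup G, x = ⊥ := fun x => le_bot_iff.mp (h ▸ le_top)
            rw [this a, this b]⟩))
    by_cases hab : IsMulCommutative N
    · by_cases hNt : MulAction.IsPretransitive N Ω
      · exact bound_of_abelian_transitive N hN1 hmin hab hNt
      · exact bound_of_normal_not_transitive ih hcard N hN1 hNt
    · obtain ⟨H, hH, hle⟩ := exists_proper_clen_le N hN1 hmin hab
      have hlt : Nat.card H < Nat.card G := by
        have hdvd := Subgroup.card_subgroup_dvd_card H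
        rcases Nat.lt_or_ge (Nat.card H) (Nat.card G) with h1 | h1
        · exact h1
        · exfalso
          apply hH
          exact Subgroup.eq_top_of_card_eq H (le_antisymm (Nat.le_of_dvd Nat.card_pos hdvd) h1)
      have h1 := Cfsg.Agent.Lib.Helper80.CLen.good_sub (Ω := Ω) ih H (by omega)
      have h2 : norb G Ω ≤ norb H Ω := Cfsg.Agent.Lib.Helper80.CLen.norb_le_norb_subgroup H
      rw [hr] at h2
      have h3 : 3 * clen G ≤ 3 * clen H := by omega
      omega

/-- S5722 -/
theorem main {G : Type u} {Ω : Type v} [Group G] [Finite G] [MulAction G Ω] [FaithfulSMul G Ω]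
    [Fintype Ω] (l : ℕ) (H : Fin (l + 1) → Subgroup G) (h0 : H 0 = ⊥) (hl : H (Fin.last l) = ⊤)
    (hchain : ∀ i : Fin l, H i.castSucc < H i.succ ∧ ((H i.castSucc).subgroupOf (H i.succ)).Normal) :
    3 * l ≤ 4 * (Fintype.card Ω - Nat.card (Quotient (MulAction.orbitRel G Ω))) := by
  have h1 := (reach_of_chain l H h0 hl hchain).le_clen
  have h2 := good_all.{u, v} (Nat.card G + Nat.card Ω) G Ω le_rfl
  rw [Nat.card_eq_fintype_card] at h2
  unfold norb at h2
  omega

end Cfsg.Agent.Lib.Helper30.CLen
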